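import Groth.Prelude.Def_CAlg2
import Groth.Prelude.Def_FDesc
import Groth.Agent.Div89.WeakAss
import Groth.Agent.Div89.AffineCompl
import Groth.Agent.Unr55.EtaleComponents
import Groth.Agent.Props58.Comp
import Groth.Agent.FlatMor68.QuasiDomGlue
import Groth.Agent.Mero90.Dense
import Mathlib.AlgebraicGeometry.Morphisms.Etale
import Mathlib.AlgebraicGeometry.Morphisms.Flat
import Mathlib.AlgebraicGeometry.Morphisms.SchemeTheoreticallyDominant
import Mathlib.AlgebraicGeometry.Noetherian

/-! Basic facts for etale affine hulls: associated points and components of etale schemes. -/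

set_option autoImplicit false
set_option linter.style.haveILetI false
universe u

open CategoryTheory CategoryTheory.Limits AlgebraicGeometry IsLocalRing TopologicalSpace

namespace Groth.Agent.Hopf35.EtaleHull

/-- A point without proper generalisations. -/
def IsGen {X : Scheme.{u}} (x : X) : Prop := ∀ y, y ⤳ x → y = x

/-- The maximal ideal of the local ring is associated. -/
def IsAss {X : Scheme.{u}} (x : X) : Prop :=
  IsAssociatedPrime (maximalIdeal (X.presheaf.stalk x)) (X.presheaf.stalk x)

/-- Good schemes: one component through each point and associated points are generic. -/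
structure Good (X : Scheme.{u}) : Prop where
  gen_of_ass : ∀ x : X, IsAss x → IsGen x
  unique : ∀ x : X, ∀ a b : X, IsGen a → IsGen b → a ⤳ x → b ⤳ x → a = b

theorem mem_ass_iff {X : Scheme.{u}} [IsLocallyNoetherian X] (x : X) :
    x ∈ AssSch.Ass (Coh.structureModule X) ↔ IsAss x :=
  (Groth.Agent.Div89.isAssPoint_iff_isWeakAssPoint _ _).trans
    (Groth.Agent.Div89.isWeakAssPoint_structureModule_iff' x)

theorem exists_gen {X : Scheme.{u}} (x : X) : ∃ y : X, y ⤳ x ∧ IsGen y := by
  obtain ⟨ξ, h, hmax, -⟩ := Unr55.EtComp.exists_maximal_generization x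
  exact ⟨ξ, h, hmax⟩

theorem isAss_of_isGen {X : Scheme.{u}} [IsLocallyNoetherian X] {x : X} (hx : IsGen x) : IsAss x := by
  obtain ⟨p, hp⟩ := associatedPrimes.nonempty (X.presheaf.stalk x) (X.presheaf.stalk x)
  let P : PrimeSpectrum (X.presheaf.stalk x) := ⟨p, hp.isPrime⟩
  have h2 : P = closedPoint (X.presheaf.stalk x) := by
    apply (X.fromSpecStalk x).isEmbedding.injective
    rw [Scheme.fromSpecStalk_closedPoint]
    refine hx _ ?_
    have : X.fromSpecStalk x P ∈ Set.range (X.fromSpecStalk x) := ⟨P, rfl⟩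
    rw [Scheme.range_fromSpecStalk] at this
    exact this
  have h3 : p = maximalIdeal (X.presheaf.stalk x) := congrArg PrimeSpectrum.asIdeal h2
  show IsAssociatedPrime _ _
  rw [← h3]
  exact hp

/-- Flat morphisms send associated points to associated points. -/
theorem isAss_map {X Y : Scheme.{u}} [IsLocallyNoetherian Y] (f : X ⟶ Y) [Flat f] {x : X}
    (hx : IsAss x) : IsAss (f x) := by
  obtain ⟨hp, s, hs⟩ := hx
  algebraize [(f.stalkMap x).hom]
  haveI : Module.Flat (Y.presheaf.stalk (f x)) (X.presheaf.stalk x) := Flat.stalkMap f x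
  have hsub : (maximalIdeal (Y.presheaf.stalk (f x)) : Set (Y.presheaf.stalk (f x))) ⊆
      ⋃ p ∈ associatedPrimes (Y.presheaf.stalk (f x)) (Y.presheaf.stalk (f x)), (p : Set (Y.presheaf.stalk (f x))) := by
    intro t ht
    by_contra hnot
    rw [biUnion_associatedPrimes_eq_zero_divisors] at hnot
    have ht0 : t ∈ nonZeroDivisors (Y.presheaf.stalk (f x)) :=
      mem_nonZeroDivisors_iff_left.2 fun r hr => by
        by_contra hr0
        exact hnot ⟨r, hr0, hr⟩
    have h1 : IsSMulRegular (X.presheaf.stalk x) t :=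
      Module.Flat.isSMulRegular_of_nonZeroDivisors ht0
    have hm : (f.stalkMap x).hom t ∈ maximalIdeal (X.presheaf.stalk x) := map_nonunit _ t ht
    rw [hs] at hm
    obtain ⟨n, hn⟩ := hm
    rw [Submodule.mem_colon_singleton, Submodule.mem_bot, ← map_pow] at hn
    have hs0 : s = 0 := (h1.pow n) (by simpa [Algebra.smul_def, RingHom.algebraMap_toAlgebra] using hn)
    exact hp.ne_top (by rw [hs, hs0]; simp)
  obtain ⟨p, hp', hle⟩ := (Ideal.subset_union_prime_finite (f := id)
    (associatedPrimes.finite _ _) ⊥ ⊥ fun i hi _ _ => IsAssociatedPrime.isPrime hi).1 hsub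
  have := IsAssociatedPrime.isPrime hp'
  show IsAssociatedPrime _ _
  rw [le_antisymm hle (le_maximalIdeal this.ne_top)]
  exact hp'

/-- Points of a fibre of a locally quasi-finite morphism are not comparable. -/
theorem eq_of_specializes {X Y : Scheme.{u}} (f : X ⟶ Y) [LocallyQuasiFinite f] {a b : X} (h : a ⤳ b)
    (he : f a = f b) : a = b := by
  have : DiscreteTopology (f ⁻¹' {f b} : Set X) := (f.isDiscrete_preimage_singleton (f b)).to_subtype
  have h' : (⟨a, he⟩ : (f ⁻¹' {f b} : Set X)) ⤳ ⟨b, rfl⟩ := (subtype_specializes_iff _ _).mpr h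
  exact congrArg Subtype.val h'.eq

theorem isGen_of_map {X Y : Scheme.{u}} (f : X ⟶ Y) [LocallyQuasiFinite f] {x : X} (h : IsGen (f x)) :
    IsGen x := fun y hy => eq_of_specializes f hy (h _ (hy.map f.continuous))

/-- Generic points go to generic points under flat morphisms. -/
theorem isGen_map {X Y : Scheme.{u}} (f : X ⟶ Y) [Flat f] {x : X} (h : IsGen x) : IsGen (f x) := by
  intro y hy
  obtain ⟨x', hx', rfl⟩ := Flat.generalizingMap f hy
  rw [h x' hx']

theorem good_base {S : Scheme.{u}} [IsLocallyNoetherian S]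
    (hS : ∀ s : S, CAlg2.IsGeomUnibranch (S.presheaf.stalk s))
    (hemb : AssSch.NoEmbedded (Coh.structureModule S)) : Good S where
  gen_of_ass x hx := fun y hy => by
    obtain ⟨z, hzy, hz⟩ := exists_gen y
    have := hemb x ((mem_ass_iff x).2 hx) z ((mem_ass_iff z).2 (isAss_of_isGen hz)) (hzy.trans hy)
    subst this
    exact hz y hy
  unique x a b ha hb hax hbx :=
    Unr55.EtComp.eq_of_maximal x (Unr55.EtComp.subsingleton_minimalPrimes (hS x)) hax hbx ha hb

theorem good_etale {S E : Scheme.{u}} [IsLocallyNoetherian S]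
    (hS : ∀ s : S, CAlg2.IsGeomUnibranch (S.presheaf.stalk s))
    (hemb : AssSch.NoEmbedded (Coh.structureModule S)) (g : E ⟶ S) [Etale g] : Good E := by
  haveI : LocallyQuasiFinite g := Unr55.locallyQuasiFinite_of_formallyUnramified g
  haveI : IsLocallyNoetherian E := LocallyOfFiniteType.isLocallyNoetherian g
  refine ⟨fun x hx => isGen_of_map g ((good_base hS hemb).gen_of_ass _ (isAss_map g hx)),
    fun x a b ha hb hax hbx => Unr55.EtComp.eq_of_maximal x (Unr55.EtComp.subsingleton_minimalPrimes
      (Unr55.EtComp.isGeomUnibranch_stalk g x ⟨⊤, trivial, inferInstance⟩ (hS _))) hax hbx ha hb⟩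

/-- Finitely many generic points. -/
theorem finite_isGen (X : Scheme.{u}) [IsNoetherian X] : {x : X | IsGen x}.Finite := by
  have : {x : X | IsGen x} ⊆ (fun x : X => x) '' {x : X | closure {x} ∈ irreducibleComponents X} := by
    intro x hx
    obtain ⟨ξ, h, -, he⟩ := Unr55.EtComp.exists_maximal_generization x
    have h' := hx ξ h
    subst h'
    exact ⟨ξ, show closure {ξ} ∈ irreducibleComponents X by rw [← he]; exact irreducibleComponent_mem_irreducibleComponents ξ, rfl⟩
  refine Set.Finite.subset ?_ this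
  refine Set.Finite.image _ ?_
  refine Set.Finite.of_finite_image (f := fun x : X => closure ({x} : Set X))
    (NoetherianSpace.finite_irreducibleComponents.subset ?_) ?_
  · rintro _ ⟨x, hx, rfl⟩
    exact hx
  · intro a _ b _ h
    have h' : closure ({b} : Set X) = closure {a} := h.symm
    exact (isGenericPoint_closure (x := a)).eq h'

/-- The closure of an open is open. -/
theorem isOpen_closure {X : Scheme.{u}} [IsNoetherian X] (hX : Good X) (V : X.Opens) :
    IsOpen (closure (V : Set X)) := by
  have hgenV : ∀ y ∈ closure (V : Set X), ∀ η : X, IsGen η → η ⤳ y → η ∈ V := by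
    intro y hy η hη hηy
    let C : Set X := ⋃ ξ ∈ {ξ : X | IsGen ξ ∧ ¬ ξ ⤳ y}, closure {ξ}
    have hC : IsClosed C :=
      ((finite_isGen X).subset fun _ h => h.1).isClosed_biUnion fun _ _ => isClosed_closure
    have hyC : y ∉ C := by
      simp only [C, Set.mem_iUnion, not_exists]
      intro ξ hξ h
      exact hξ.2 (specializes_iff_mem_closure.2 h)
    obtain ⟨w, hw, hwV⟩ := mem_closure_iff.1 hy Cᶜ hC.isOpen_compl hyC
    obtain ⟨ξ, hξw, hξ⟩ := exists_gen w
    have hξy : ξ ⤳ y := by
      by_contra hn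
      exact hw (Set.mem_biUnion ⟨hξ, hn⟩ hξw.mem_closure)
    rw [hX.unique y η ξ hη hξ hηy hξy]
    exact hξw.mem_open V.2 hwV
  rw [← isClosed_compl_iff]
  let F : Set X := {ξ : X | IsGen ξ ∧ ξ ∉ V}
  have hF : (closure (V : Set X))ᶜ = ⋃ ξ ∈ F, closure {ξ} := by
    ext y
    simp only [Set.mem_compl_iff, Set.mem_iUnion]
    constructor
    · intro hy
      obtain ⟨ξ, hξy, hξ⟩ := exists_gen y
      exact ⟨ξ, ⟨hξ, fun h => hy (closure_mono (Set.singleton_subset_iff.2 h) hξy.mem_closure)⟩,
        hξy.mem_closure⟩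
    · rintro ⟨ξ, hξ, h⟩ hy
      exact hξ.2 (hgenV y hy ξ hξ.1 (specializes_iff_mem_closure.2 h))
  rw [hF]
  exact ((finite_isGen X).subset fun _ h => h.1).isClosed_biUnion fun _ _ => isClosed_closure

/-- A generic point in the closure of an open lies in the open. -/
theorem mem_of_isGen {Y : Scheme.{u}} [IsNoetherian Y] {V : Set Y} (hV : IsOpen V) {y : Y} (hy : IsGen y)
    (hyV : y ∈ closure V) : y ∈ V := by
  let C : Set Y := ⋃ ξ ∈ {ξ : Y | IsGen ξ ∧ ξ ≠ y}, closure {ξ}
  have hC : IsClosed C :=
    ((finite_isGen Y).subset fun _ h => h.1).isClosed_biUnion fun _ _ => isClosed_closure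
  have hyC : y ∉ C := by
    simp only [C, Set.mem_iUnion, not_exists]
    intro ξ hξ h
    exact hξ.2 (hy ξ (specializes_iff_mem_closure.2 h))
  obtain ⟨w, hw, hwV⟩ := mem_closure_iff.1 hyV Cᶜ hC.isOpen_compl hyC
  obtain ⟨ξ, hξw, hξ⟩ := exists_gen w
  have : ξ = y := by
    by_contra hn
    exact hw (Set.mem_biUnion ⟨hξ, hn⟩ hξw.mem_closure)
  exact this ▸ hξw.mem_open hV hwV

/-- A flat morphism of schemes is scheme-theoretically dominant if its image contains every associated
point of the target. -/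
theorem dominant_of_flat {X Y : Scheme.{u}} [IsLocallyNoetherian Y] (f : X ⟶ Y) [Flat f]
    [UniversallyOpen f] (h : ∀ y : Y, IsAss y → y ∈ Set.range f) : IsSchemeTheoreticallyDominant f := by
  let V : Y.Opens := ⟨Set.range f, f.isOpenMap.isOpen_range⟩
  have hV : CInt.IsSchematicallyDense V :=
    Groth.Agent.Div89.isSchematicallyDense_of_weakAss V fun y hy =>
      h y ((Groth.Agent.Div89.isWeakAssPoint_structureModule_iff' y).1 hy)
  rw [isSchemeTheoreticallyDominant_iff, ← le_bot_iff, Scheme.IdealSheafData.le_def]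
  intro W a ha
  have h0 : f.app W.1 a = 0 := RingHom.mem_ker.1 ((f.ideal_ker_le W) ha)
  refine (hV W.1) ((TopCat.Presheaf.section_ext Y.sheaf _ _ _ fun y hy => ?_).trans (map_zero _).symm)
  show Y.presheaf.germ (W.1 ⊓ V) y hy (Y.presheaf.map (homOfLE inf_le_left).op a) =
    Y.presheaf.germ (W.1 ⊓ V) y hy 0
  rw [TopCat.Presheaf.germ_res_apply, map_zero]
  obtain ⟨x, rfl⟩ := hy.2
  algebraize [(f.stalkMap x).hom]
  have : Module.FaithfullyFlat (Y.presheaf.stalk (f x)) (X.presheaf.stalk x) :=
    @Module.FaithfullyFlat.of_flat_of_isLocalHom _ _ _ _ _ _ _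
      (Flat.stalkMap f x) (f.toLRSHom.prop x)
  apply ‹RingHom.FaithfullyFlat _›.injective
  rw [map_zero]
  erw [Scheme.Hom.germ_stalkMap_apply]
  rw [h0, map_zero]

/-- A quasi-compact scheme-theoretically dominant morphism hits every generic point of its open image. -/
theorem mem_range_of_isGen {X Y : Scheme.{u}} [IsNoetherian Y] (f : X ⟶ Y) [UniversallyOpen f] [QuasiCompact f]
    [IsSchemeTheoreticallyDominant f] {y : Y} (hy : IsGen y) : y ∈ Set.range f := by
  exact mem_of_isGen f.isOpenMap.isOpen_range hy (f.denseRange.closure_eq ▸ Set.mem_univ y)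

end Groth.Agent.Hopf35.EtaleHull
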