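import Groth.Agent.Hopf35.EtaleHull.Basic
import Mathlib.AlgebraicGeometry.Morphisms.Affine
import Mathlib.AlgebraicGeometry.Morphisms.Separated
import Mathlib.AlgebraicGeometry.Morphisms.FinitePresentation
import Mathlib.AlgebraicGeometry.Morphisms.FlatMono

/-! Admissible factorisations through etale affine schemes. -/

set_option autoImplicit false
set_option linter.style.haveILetI false
universe u

open CategoryTheory CategoryTheory.Limits AlgebraicGeometry IsLocalRing TopologicalSpace

namespace Groth.Agent.Hopf35.EtaleHull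

/-- An admissible factorisation. -/
structure Fac {X S : Scheme.{u}} (f : X ⟶ S) where
  E : Scheme.{u}
  g : E ⟶ S
  u : X ⟶ E
  etale : Etale g
  affine : IsAffineHom g
  dom : IsSchemeTheoreticallyDominant u
  w : u ≫ g = f

attribute [instance] Fac.etale Fac.affine Fac.dom

variable {X S : Scheme.{u}} {f : X ⟶ S}

/-- Existence of a compatible morphism. -/
def Le (A B : Fac f) : Prop := ∃ v : A.E ⟶ B.E, A.u ≫ v = B.u ∧ v ≫ B.g = A.g

theorem Le.trans {A B C : Fac f} : Le A B → Le B C → Le A C := by
  rintro ⟨v, h₁, h₂⟩ ⟨w, h₃, h₄⟩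
  exact ⟨v ≫ w, by rw [reassoc_of% h₁, h₃], by rw [Category.assoc, h₄, h₂]⟩

theorem Le.refl (A : Fac f) : Le A A := ⟨𝟙 _, Category.comp_id _, Category.id_comp _⟩

set_option backward.isDefEq.respectTransparency.types false in
theorem flat_of_etale {E : Scheme.{u}} (u : X ⟶ E) (g : E ⟶ S) (w : u ≫ g = f) [Flat f] [Etale g] : Flat u := by
  haveI : MorphismProperty.HasOfPostcompProperty @Flat (@LocallyOfFiniteType ⊓ @FormallyUnramified) := by
    rw [MorphismProperty.hasOfPostcompProperty_iff_le_diagonal]
    intro A B h ⟨h₁, h₂⟩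
    exact inferInstanceAs <| Flat (pullback.diagonal h)
  exact MorphismProperty.of_postcomp (W := @Flat) (W' := @LocallyOfFiniteType ⊓ @FormallyUnramified) u g
    ⟨inferInstance, inferInstance⟩ (w.symm ▸ (inferInstance : Flat f))

set_option backward.isDefEq.respectTransparency.types false in
theorem lfp_of_etale {E : Scheme.{u}} (u : X ⟶ E) (g : E ⟶ S) (w : u ≫ g = f) [LocallyOfFinitePresentation f]
    [Etale g] : LocallyOfFinitePresentation u := by
  haveI : MorphismProperty.IsMultiplicative @LocallyOfFinitePresentation :=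
    { id_mem := fun _ => inferInstance, comp_mem := fun _ _ _ _ => inferInstance }
  haveI : MorphismProperty.HasOfPostcompProperty @LocallyOfFinitePresentation
      (@LocallyOfFiniteType ⊓ @FormallyUnramified) := by
    rw [MorphismProperty.hasOfPostcompProperty_iff_le_diagonal]
    intro A B h ⟨h₁, h₂⟩
    exact inferInstanceAs <| LocallyOfFinitePresentation (pullback.diagonal h)
  exact MorphismProperty.of_postcomp (W := @LocallyOfFinitePresentation)
    (W' := @LocallyOfFiniteType ⊓ @FormallyUnramified) u g
    ⟨inferInstance, inferInstance⟩ (w.symm ▸ (inferInstance : LocallyOfFinitePresentation f))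

/-- A factorisation through an etale affine scheme restricts to an admissible one. -/
theorem exists_admissible [IsNoetherian S] (hS : ∀ s : S, CAlg2.IsGeomUnibranch (S.presheaf.stalk s))
    (hemb : AssSch.NoEmbedded (Coh.structureModule S))
    [Flat f] [LocallyOfFinitePresentation f] [QuasiCompact f]
    {E : Scheme.{u}} (g : E ⟶ S) (u : X ⟶ E) [Etale g] [IsAffineHom g] (w : u ≫ g = f) :
    ∃ (A : Fac f) (j : A.E ⟶ E), IsOpenImmersion j ∧ IsClosedImmersion j ∧ A.u ≫ j = u ∧ j ≫ g = A.g := by
  haveI : Flat u := flat_of_etale u g w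
  haveI : LocallyOfFinitePresentation u := lfp_of_etale u g w
  haveI : UniversallyOpen u := inferInstance
  haveI : IsLocallyNoetherian E := LocallyOfFiniteType.isLocallyNoetherian g
  haveI : CompactSpace E := QuasiCompact.compactSpace_of_compactSpace g
  haveI : IsNoetherian E := ⟨⟩
  have hE : Good E := good_etale hS hemb g
  let V : E.Opens := ⟨Set.range u, u.isOpenMap.isOpen_range⟩
  let C : E.Opens := ⟨closure (V : Set E), isOpen_closure hE V⟩
  haveI : IsClosedImmersion C.ι := IsClosedImmersion.of_isPreimmersion _ (by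
    rw [Scheme.Opens.range_ι]; exact isClosed_closure)
  let uC : X ⟶ (C : Scheme.{u}) := IsOpenImmersion.lift C.ι u (by
    rw [Scheme.Opens.range_ι]; exact subset_closure)
  have huC : uC ≫ C.ι = u := IsOpenImmersion.lift_fac _ _ _
  have hw : uC ≫ C.ι ≫ g = f := by rw [reassoc_of% huC, w]
  haveI : IsLocallyNoetherian (C : Scheme.{u}) := LocallyOfFiniteType.isLocallyNoetherian C.ι
  haveI : Flat uC := flat_of_etale uC (C.ι ≫ g) hw
  haveI : LocallyOfFinitePresentation uC := lfp_of_etale uC (C.ι ≫ g) hw
  haveI : IsSchemeTheoreticallyDominant uC := by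
    refine dominant_of_flat uC fun y hy => ?_
    have hgen : IsGen y := (good_etale hS hemb (C.ι ≫ g)).gen_of_ass y hy
    have hgen' : IsGen (C.ι y) := fun z hz => by
      have hzC : z ∈ C := hz.mem_open C.2 y.2
      exact congrArg C.ι (hgen ⟨z, hzC⟩ ((C.ι.isEmbedding.isInducing.specializes_iff).1 hz))
    obtain ⟨x, hx⟩ := mem_of_isGen V.2 hgen' y.2
    exact ⟨x, C.ι.isOpenEmbedding.injective (by rw [← Scheme.Hom.comp_apply, huC]; exact hx)⟩
  exact ⟨⟨C, C.ι ≫ g, uC, inferInstance, inferInstance, ‹_›, hw⟩, C.ι, inferInstance, inferInstance, huC, rfl⟩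

/-- Morphisms out of an admissible factorisation are determined by the composite with `u`. -/
theorem hom_ext (A : Fac f) {E : Scheme.{u}} (g : E ⟶ S) [IsSeparated g] {v v' : A.E ⟶ E}
    (hu : A.u ≫ v = A.u ≫ v') (hg : v ≫ g = v' ≫ g) : v = v' :=
  Groth.Agent.FlatMor68.QuasiDomGlue.ext_of_dominant A.u g v v' hg hu

section props

variable [IsNoetherian S] [Flat f] [LocallyOfFinitePresentation f] [QuasiCompact f]

theorem Fac.flat (A : Fac f) : Flat A.u := flat_of_etale A.u A.g A.w

theorem Fac.universallyOpen (A : Fac f) : UniversallyOpen A.u := by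
  haveI := A.flat
  haveI := lfp_of_etale A.u A.g A.w
  infer_instance

theorem Fac.quasiCompact (A : Fac f) : QuasiCompact A.u := by
  haveI : QuasiCompact (A.u ≫ A.g) := A.w.symm ▸ inferInstance
  exact QuasiCompact.of_comp A.u A.g

omit [Flat f] [LocallyOfFinitePresentation f] [QuasiCompact f] in
theorem Fac.noetherian (A : Fac f) : IsNoetherian A.E := by
  haveI : IsLocallyNoetherian A.E := LocallyOfFiniteType.isLocallyNoetherian A.g
  haveI : CompactSpace A.E := QuasiCompact.compactSpace_of_compactSpace A.g
  exact ⟨⟩

/-- Every generic point of an admissible factorisation is the image of a generic point. -/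
theorem Fac.exists_gen (A : Fac f) {e : A.E} (he : IsGen e) : ∃ x : X, IsGen x ∧ A.u x = e := by
  haveI := A.noetherian
  haveI := A.universallyOpen
  haveI := A.quasiCompact
  obtain ⟨x, rfl⟩ := mem_range_of_isGen A.u he
  obtain ⟨x', hx', hgen⟩ := EtaleHull.exists_gen x
  exact ⟨x', hgen, he _ (hx'.map A.u.continuous)⟩

end props

/-- An etale separated morphism, bijective on generic points and their residue fields, is an open
immersion. -/
theorem isOpenImmersion_of_gen {A B : Scheme.{u}} (v : A ⟶ B) [Etale v] [IsSeparated v]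
    (hinj : ∀ e₁ e₂ : A, IsGen e₁ → IsGen e₂ → v e₁ = v e₂ → e₁ = e₂)
    (hres : ∀ e : A, IsGen e → Function.Surjective (v.residueFieldMap e).hom) : IsOpenImmersion v := by
  haveI : IsClosedImmersion (pullback.diagonal v) := IsSeparated.diagonal_isClosedImmersion
  haveI : Surjective (pullback.diagonal v) := by
    refine ⟨fun p => ?_⟩
    obtain ⟨p0, hp0, hgen⟩ := EtaleHull.exists_gen p
    suffices h : p0 ∈ Set.range (pullback.diagonal v) from
      hp0.mem_closed (pullback.diagonal v).isClosedEmbedding.isClosed_range h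
    let P := pullback v v
    let q := P.fromSpecResidueField p0
    have he : pullback.fst v v p0 = pullback.snd v v p0 := by
      refine hinj _ _ (isGen_map (pullback.fst v v) hgen) (isGen_map (pullback.snd v v) hgen) ?_
      rw [← Scheme.Hom.comp_apply, ← Scheme.Hom.comp_apply, pullback.condition]
    let φ := (pullback.fst v v).residueFieldMap p0
    let ψ := (A.residueFieldCongr he).hom ≫ (pullback.snd v v).residueFieldMap p0
    have ha : q ≫ pullback.fst v v = Spec.map φ ≫ A.fromSpecResidueField _ :=
      ((pullback.fst v v).SpecMap_residueFieldMap_fromSpecResidueField p0).symm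
    have hb : q ≫ pullback.snd v v = Spec.map ψ ≫ A.fromSpecResidueField _ := by
      rw [Spec.map_comp, Category.assoc, Scheme.residueFieldCongr_fromSpecResidueField]
      exact ((pullback.snd v v).SpecMap_residueFieldMap_fromSpecResidueField p0).symm
    have hv : v.residueFieldMap _ ≫ φ = v.residueFieldMap _ ≫ ψ := by
      apply Spec.map_injective
      rw [← cancel_mono (B.fromSpecResidueField _), Spec.map_comp, Spec.map_comp, Category.assoc, Category.assoc,
        v.SpecMap_residueFieldMap_fromSpecResidueField, ← reassoc_of% ha, ← reassoc_of% hb, pullback.condition]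
    have hφ : φ = ψ := by
      ext a
      obtain ⟨b, rfl⟩ := hres _ (isGen_map (pullback.fst v v) hgen) a
      exact congr($(hv).hom b)
    refine ⟨(q ≫ pullback.fst v v) (closedPoint _), ?_⟩
    have hq : (q ≫ pullback.fst v v) ≫ pullback.diagonal v = q := by
      refine pullback.hom_ext ?_ ?_
      · rw [Category.assoc, pullback.diagonal_fst, Category.comp_id]
      · rw [Category.assoc, pullback.diagonal_snd, Category.comp_id, ha, hb, hφ]
    show ((q ≫ pullback.fst v v) ≫ pullback.diagonal v) _ = _
    rw [hq]
    exact Scheme.fromSpecResidueField_apply _ _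
  haveI : IsIso (pullback.diagonal v) := Flat.isIso_of_surjective_of_mono _
  haveI : Mono v := (pullback.isIso_diagonal_iff v).1 inferInstance
  exact IsOpenImmersion.of_flat_of_mono v

end Groth.Agent.Hopf35.EtaleHull
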