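import Groth.Agent.Hopf35.EtaleHull.Fac
import Groth.Agent.Div89.AffineCompl
import Mathlib.AlgebraicGeometry.Fiber
import Mathlib.AlgebraicGeometry.Morphisms.Finite
import Mathlib.AlgebraicGeometry.ResidueField

/-! A sup-closed family of admissible factorisations has a finest member. -/

set_option autoImplicit false
set_option linter.style.haveILetI false
set_option backward.isDefEq.respectTransparency.types false
universe u

open CategoryTheory CategoryTheory.Limits AlgebraicGeometry IsLocalRing TopologicalSpace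

namespace Groth.Agent.Hopf35.EtaleHull

/-- A finite set containing all maximal points of a closed set. -/
theorem exists_finset_maximal {X : Scheme.{u}} [IsNoetherian X] {s : Set X} (hs : IsClosed s) :
    ∃ S : Finset X, ∀ z ∈ s, (∀ y ∈ s, y ⤳ z → y = z) → z ∈ S := by
  classical
  obtain ⟨T, hTfin, hTc, hTi, hsT⟩ := NoetherianSpace.exists_finite_set_isClosed_irreducible hs
  refine ⟨hTfin.toFinset.attach.image fun t => (hTi t.1 (hTfin.mem_toFinset.1 t.2)).genericPoint,
    fun z hz hmax => ?_⟩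
  rw [hsT] at hz
  obtain ⟨t, ht, hzt⟩ := hz
  refine Finset.mem_image.2 ⟨⟨t, hTfin.mem_toFinset.2 ht⟩, Finset.mem_attach _ _, ?_⟩
  have hg := (hTi t ht).isGenericPoint_genericPoint (hTc t ht)
  exact hmax _ (hsT ▸ Set.mem_sUnion.2 ⟨t, ht, hg.mem⟩) (hg.specializes hzt)

/-- The image of the residue field in a field-valued point. -/
noncomputable def res {Y : Scheme.{u}} {K : Type u} [Field K] (q : Spec (CommRingCat.of K) ⟶ Y) : Set K :=
  Set.range (Scheme.descResidueField (Scheme.stalkClosedPointTo q)).hom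

theorem res_comp_subset {Y Z : Scheme.{u}} {K : Type u} [Field K] (q : Spec (CommRingCat.of K) ⟶ Y) (v : Y ⟶ Z) :
    res (q ≫ v) ⊆ res q := by
  rintro _ ⟨a, rfl⟩
  exact ⟨(v.residueFieldMap _).hom a, congr($(Scheme.descResidueField_stalkClosedPointTo_comp v q).hom a).symm⟩

theorem res_map_subset {Y : Scheme.{u}} {K : Type u} [Field K] (q : Spec (CommRingCat.of K) ⟶ Y) (y : Y)
    (φ : Y.residueField y ⟶ CommRingCat.of K) (hq : q = Spec.map φ ≫ Y.fromSpecResidueField y) :
    Set.range φ.hom ⊆ res q := by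
  have hy : q (closedPoint K) = y := by
    rw [hq, Scheme.Hom.comp_apply, Scheme.fromSpecResidueField_apply]
  have h : Spec.map ((Y.residueFieldCongr hy).inv ≫ Scheme.descResidueField (Scheme.stalkClosedPointTo q)) ≫
      Y.fromSpecResidueField y = q := by
    rw [Spec.map_comp, Category.assoc]
    conv_rhs => rw [← Scheme.descResidueField_stalkClosedPointTo_fromSpecResidueField K Y q]
    congr 1
    exact Scheme.residueFieldCongr_fromSpecResidueField (X := Y) hy.symm
  conv_rhs at h => rw [hq]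
  have := Spec.map_injective ((cancel_mono (Y.fromSpecResidueField y)).1 h)
  rintro _ ⟨a, rfl⟩
  exact ⟨((Y.residueFieldCongr hy).inv).hom a, congr($(this).hom a)⟩

variable {X S : Scheme.{u}} {f : X ⟶ S}

/-- A finite field-valued specialisation of a point in its fibre. -/
structure Wit (f : X ⟶ S) (x : X) where
  K : Type u
  [field : Field K]
  φ : S.residueField (f x) ⟶ CommRingCat.of K
  fin : φ.hom.Finite
  l : Spec (CommRingCat.of K) ⟶ X
  hl : l ≫ f = Spec.map φ ≫ S.fromSpecResidueField (f x)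
  spec : x ⤳ l (closedPoint K)

attribute [instance] Wit.field

theorem nonempty_wit [LocallyOfFiniteType f] (x : X) : Nonempty (Wit f x) := by
  obtain ⟨z0, hz0⟩ : x ∈ Set.range (f.fiberι (f x)) := by rw [f.range_fiberι]; rfl
  obtain ⟨z, hz, hzc⟩ := nonempty_inter_closedPoints (Z := closure ({z0} : Set (f.fiber (f x))))
    ⟨z0, subset_closure rfl⟩ isClosed_closure.isLocallyClosed
  haveI : IsClosedImmersion ((f.fiber (f x)).fromSpecResidueField z) :=
    IsClosedImmersion.of_isPreimmersion _ (by rw [Scheme.range_fromSpecResidueField]; exact hzc)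
  let φ := Spec.preimage ((f.fiber (f x)).fromSpecResidueField z ≫ f.fiberToSpecResidueField (f x))
  haveI : LocallyOfFiniteType (f.fiberToSpecResidueField (f x)) :=
    inferInstanceAs (LocallyOfFiniteType (pullback.snd _ _))
  have hlft : LocallyOfFiniteType (Spec.map φ) := by
    rw [Spec.map_preimage]; infer_instance
  refine ⟨{ K := (f.fiber (f x)).residueField z, φ := φ,
            fin := IsFinite.SpecMap_iff φ |>.1 (isFinite_iff_locallyOfFiniteType_of_jacobsonSpace.2 hlft),
            l := (f.fiber (f x)).fromSpecResidueField z ≫ f.fiberι (f x), hl := ?_, spec := ?_ }⟩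
  · rw [Category.assoc, Spec.map_preimage, Category.assoc]
    congr 1
    exact pullback.condition
  · rw [Scheme.Hom.comp_apply, Scheme.fromSpecResidueField_apply]
    exact (specializes_of_eq hz0.symm).trans ((specializes_iff_mem_closure.2 hz).map (f.fiberι (f x)).continuous)

section deg

variable {x : X} (W : Wit f x)

/-- The field generated by the residue field of the image. -/
noncomputable def Wit.adj (A : Fac f) : letI := W.φ.hom.toAlgebra; Subalgebra (S.residueField (f x)) W.K :=
  letI := W.φ.hom.toAlgebra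
  Algebra.adjoin (S.residueField (f x)) (res (W.l ≫ A.u))

/-- Its degree. -/
noncomputable def Wit.deg (A : Fac f) : ℕ :=
  letI := W.φ.hom.toAlgebra
  Module.finrank (S.residueField (f x)) ↥(W.adj A)

/-- An upper bound for the degree. -/
noncomputable def Wit.bound : ℕ :=
  letI := W.φ.hom.toAlgebra
  Module.finrank (S.residueField (f x)) W.K

theorem Wit.point (A : Fac f) : A.u x = (W.l ≫ A.u) (closedPoint W.K) := by
  haveI : LocallyQuasiFinite A.g := Unr55.locallyQuasiFinite_of_formallyUnramified A.g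
  refine eq_of_specializes A.g (W.spec.map A.u.continuous) ?_
  rw [← Scheme.Hom.comp_apply, A.w, Scheme.Hom.comp_apply, ← Scheme.Hom.comp_apply A.u A.g, A.w,
    ← Scheme.Hom.comp_apply W.l f, W.hl, Scheme.Hom.comp_apply, Scheme.fromSpecResidueField_apply]

theorem Wit.deg_le_bound (A : Fac f) : W.deg A ≤ W.bound := by
  letI := W.φ.hom.toAlgebra
  haveI : Module.Finite (S.residueField (f x)) W.K := W.fin
  exact Submodule.finrank_le (Subalgebra.toSubmodule (W.adj A))

theorem Wit.adj_mono {A B : Fac f} (v : A.E ⟶ B.E) (hv : A.u ≫ v = B.u) :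
    letI := W.φ.hom.toAlgebra; W.adj B ≤ W.adj A := by
  letI := W.φ.hom.toAlgebra
  refine Algebra.adjoin_mono ?_
  rw [← hv, ← Category.assoc]
  exact res_comp_subset _ _

theorem Wit.deg_mono {A B : Fac f} (h : Le A B) : W.deg B ≤ W.deg A := by
  obtain ⟨v, hv, -⟩ := h
  letI := W.φ.hom.toAlgebra
  haveI : Module.Finite (S.residueField (f x)) W.K := W.fin
  exact Submodule.finrank_mono (show Subalgebra.toSubmodule (W.adj B) ≤ Subalgebra.toSubmodule (W.adj A) from
    W.adj_mono v hv)

theorem Wit.surjective {A B : Fac f} (v : A.E ⟶ B.E) (hv : A.u ≫ v = B.u) (hd : W.deg A ≤ W.deg B) :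
    Function.Surjective (v.residueFieldMap (A.u x)).hom := by
  letI := W.φ.hom.toAlgebra
  haveI : Module.Finite (S.residueField (f x)) W.K := W.fin
  have heq : Subalgebra.toSubmodule (W.adj B) = Subalgebra.toSubmodule (W.adj A) :=
    Submodule.eq_of_le_of_finrank_le (W.adj_mono v hv) hd
  have hB : ∀ b ∈ W.adj B, b ∈ res (W.l ≫ B.u) := by
    intro b hb
    induction hb using Algebra.adjoin_induction with
    | mem b hb => exact hb
    | algebraMap r =>
      have h1 := res_map_subset (W.l ≫ f) (f x) W.φ W.hl ⟨r, rfl⟩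
      have e : W.l ≫ f = (W.l ≫ B.u) ≫ B.g := by rw [Category.assoc, B.w]
      rw [e] at h1
      exact res_comp_subset _ _ h1
    | add a b _ _ ha hb =>
      obtain ⟨a, rfl⟩ := ha
      obtain ⟨b, rfl⟩ := hb
      exact ⟨a + b, map_add _ _ _⟩
    | mul a b _ _ ha hb =>
      obtain ⟨a, rfl⟩ := ha
      obtain ⟨b, rfl⟩ := hb
      exact ⟨a * b, map_mul _ _ _⟩
  suffices h : Function.Surjective (v.residueFieldMap ((W.l ≫ A.u) (closedPoint W.K))).hom by
    rw [W.point A]; exact h
  intro a
  have ha : (Scheme.descResidueField (Scheme.stalkClosedPointTo (W.l ≫ A.u))).hom a ∈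
      Subalgebra.toSubmodule (W.adj A) := Algebra.subset_adjoin ⟨a, rfl⟩
  rw [← heq] at ha
  have := hB _ ha
  rw [← hv, ← Category.assoc] at this
  obtain ⟨b, hb⟩ := this
  refine ⟨b, (Scheme.descResidueField (Scheme.stalkClosedPointTo (W.l ≫ A.u))).hom.injective ?_⟩
  exact (congr($(Scheme.descResidueField_stalkClosedPointTo_comp v (W.l ≫ A.u)).hom b).symm).trans hb

end deg

section main

variable [IsNoetherian S] [Flat f] [LocallyOfFinitePresentation f] [QuasiCompact f]

/-- A sup-closed family has a finest member. -/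
theorem exists_finest (P : Fac f → Prop) (hne : ∃ A, P A)
    (hsup : ∀ A B, P A → P B → ∃ C, P C ∧ Le C A ∧ Le C B) : ∃ M, P M ∧ ∀ B, P B → Le M B := by
  classical
  haveI : IsLocallyNoetherian X := LocallyOfFiniteType.isLocallyNoetherian f
  haveI : CompactSpace X := QuasiCompact.compactSpace_of_compactSpace f
  haveI : IsNoetherian X := ⟨⟩
  haveI := (finite_isGen X).fintype
  let W : ∀ x : {x : X | IsGen x}, Wit f x.1 := fun x => (nonempty_wit x.1).some
  let img : ∀ A : Fac f, Finset A.E := fun A => Finset.univ.image fun x : {x : X | IsGen x} => A.u x.1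
  let N : Fac f → ℕ := fun A => (∑ x, (W x).deg A) + (img A).card
  have hbdd : BddAbove (N '' {A | P A}) := ⟨(∑ x, (W x).bound) + Fintype.card {x : X | IsGen x}, by
    rintro _ ⟨A, -, rfl⟩
    exact add_le_add (Finset.sum_le_sum fun x _ => (W x).deg_le_bound A) Finset.card_image_le⟩
  obtain ⟨A₀, hA₀P, hA₀⟩ := Nat.sSup_mem (s := N '' {A | P A}) (Set.Nonempty.image N hne) hbdd
  have hmax : ∀ A, P A → N A ≤ N A₀ := fun A hA => hA₀ ▸ le_csSup hbdd ⟨A, hA, rfl⟩
  -- everything finer than `A₀` is an open piece of it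
  have hopen : ∀ A, P A → ∀ v : A.E ⟶ A₀.E, A.u ≫ v = A₀.u → v ≫ A₀.g = A.g → IsOpenImmersion v := by
    intro A hA v hv hg
    haveI : Etale (v ≫ A₀.g) := hg.symm ▸ A.etale
    haveI : IsAffineHom (v ≫ A₀.g) := hg.symm ▸ A.affine
    haveI : Etale v := Etale.of_comp v A₀.g
    haveI : IsAffineHom v := IsAffineHom.of_comp v A₀.g
    have himg : img A₀ = (img A).image v := by
      rw [Finset.image_image]
      refine Finset.image_congr fun x _ => ?_
      show A₀.u x.1 = v (A.u x.1)
      rw [← Scheme.Hom.comp_apply, hv]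
    have hd : ∀ x, (W x).deg A₀ ≤ (W x).deg A := fun x => (W x).deg_mono ⟨v, hv, hg⟩
    have hN := hmax A hA
    have hc : (img A₀).card ≤ (img A).card := himg ▸ Finset.card_image_le
    have hs := Finset.sum_le_sum (s := Finset.univ) fun x _ => hd x
    have hd' : ∀ x, (W x).deg A ≤ (W x).deg A₀ := by
      by_contra hcon
      push Not at hcon
      obtain ⟨x, hx⟩ := hcon
      have := Finset.sum_lt_sum (fun y _ => hd y) ⟨x, Finset.mem_univ x, hx⟩
      simp only [N] at hN
      omega
    have hc' : (img A).card ≤ ((img A).image v).card := by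
      rw [← himg]
      simp only [N] at hN
      omega
    have hinjOn := Finset.card_image_iff.1 (le_antisymm Finset.card_image_le hc')
    refine isOpenImmersion_of_gen v (fun e₁ e₂ h₁ h₂ he => ?_) fun e he => ?_
    · obtain ⟨x₁, hx₁, rfl⟩ := A.exists_gen h₁
      obtain ⟨x₂, hx₂, rfl⟩ := A.exists_gen h₂
      exact hinjOn (Finset.mem_image.2 ⟨⟨x₁, hx₁⟩, Finset.mem_univ _, rfl⟩)
        (Finset.mem_image.2 ⟨⟨x₂, hx₂⟩, Finset.mem_univ _, rfl⟩) he
    · obtain ⟨x, hx, rfl⟩ := A.exists_gen he
      exact (W ⟨x, hx⟩).surjective v hv (hd' _)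
  -- maximise the removed divisor
  haveI := A₀.noetherian
  haveI := A₀.universallyOpen
  haveI := A₀.quasiCompact
  let V : A₀.E.Opens := ⟨Set.range A₀.u, A₀.u.isOpenMap.isOpen_range⟩
  obtain ⟨S₀, hS₀⟩ := exists_finset_maximal V.2.isClosed_compl
  let Q : Set ℕ := {n | ∃ A, P A ∧ ∃ v : A.E ⟶ A₀.E, A.u ≫ v = A₀.u ∧ v ≫ A₀.g = A.g ∧
    n = (S₀.filter fun z => z ∉ Set.range v).card}
  have hQ : BddAbove Q := ⟨S₀.card, by rintro _ ⟨-, -, -, -, -, rfl⟩; exact Finset.card_filter_le _ _⟩
  have hQne : Q.Nonempty := ⟨_, A₀, hA₀P, 𝟙 _, Category.comp_id _, Category.id_comp _, rfl⟩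
  obtain ⟨M, hMP, m, hmu, hmg, hm⟩ := Nat.sSup_mem hQne hQ
  refine ⟨M, hMP, fun B hB => ?_⟩
  obtain ⟨C, hCP, ⟨c, hcu, hcg⟩, hCB⟩ := hsup M B hMP hB
  suffices h : Le M C from h.trans hCB
  have hcu' : C.u ≫ (c ≫ m) = A₀.u := by rw [reassoc_of% hcu, hmu]
  have hcg' : (c ≫ m) ≫ A₀.g = C.g := by rw [Category.assoc, hmg, hcg]
  haveI := hopen M hMP m hmu hmg
  haveI := hopen C hCP _ hcu' hcg'
  have hsub : Set.range (c ≫ m) ⊆ Set.range m := by
    rintro _ ⟨e, rfl⟩
    exact ⟨c e, (Scheme.Hom.comp_apply c m e).symm⟩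
  have hfilt : (S₀.filter fun z => z ∉ Set.range m) = S₀.filter fun z => z ∉ Set.range (c ≫ m) :=
    Finset.eq_of_subset_of_card_le (Finset.monotone_filter_right S₀ fun z _ hz h => hz (hsub h))
      (hm ▸ le_csSup hQ ⟨C, hCP, _, hcu', hcg', rfl⟩)
  have hsup' : Set.range m ⊆ Set.range (c ≫ m) := by
    intro z hz
    by_contra hzC
    -- a maximal point outside the smaller open
    obtain ⟨T, hT, hTc⟩ : ∃ z' ∉ Set.range (c ≫ m), z' ⤳ z ∧
        ∀ y ∉ Set.range (c ≫ m), y ⤳ z' → y = z' := by
      obtain ⟨K, hKfin, hKc, hKi, hK⟩ := NoetherianSpace.exists_finite_set_isClosed_irreducible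
        (c ≫ m).isOpenEmbedding.isOpen_range.isClosed_compl
      have hz' : z ∈ (Set.range (c ≫ m))ᶜ := hzC
      rw [hK] at hz'
      -- choose a maximal piece containing z
      obtain ⟨t₀, ht₀, hzt₀⟩ := hz'
      obtain ⟨t, ht₀t, htmax⟩ := hKfin.exists_le_maximal ht₀
      have hg := (hKi t htmax.1).isGenericPoint_genericPoint (hKc t htmax.1)
      refine ⟨_, fun h => (show _ ∈ (Set.range (c ≫ m))ᶜ from hK ▸ Set.mem_sUnion.2 ⟨t, htmax.1, hg.mem⟩) h,
        hg.specializes (ht₀t hzt₀), fun y hy hyg => ?_⟩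
      obtain ⟨t', ht', hyt'⟩ : y ∈ ⋃₀ K := hK ▸ hy
      have hgt' : (hKi t htmax.1).genericPoint ∈ t' := hyg.mem_closed (hKc t' ht') hyt'
      have htt' : t ⊆ t' := hg.def ▸ (hKc t' ht').closure_subset_iff.2 (Set.singleton_subset_iff.2 hgt')
      have hyt : y ∈ t := htmax.2 ht' htt' hyt'
      exact (hyg.antisymm (hg.specializes hyt)).eq
    have hTm : T ∈ Set.range m := hTc.1.mem_open m.isOpenEmbedding.isOpen_range hz
    have hVsub : (V : Set A₀.E) ⊆ Set.range (c ≫ m) := by
      rintro _ ⟨x, rfl⟩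
      exact ⟨C.u x, by rw [← Scheme.Hom.comp_apply, hcu']⟩
    have hTS : T ∈ S₀ := by
      refine hS₀ T (fun h => hT (hVsub h)) fun y hy hyT => ?_
      by_contra hne
      refine hne (hTc.2 y (fun hyC => ?_) hyT)
      let R := (c ≫ m).opensRange
      haveI : IsAffineHom (c ≫ m) := by
        haveI : IsAffineHom ((c ≫ m) ≫ A₀.g) := hcg'.symm ▸ C.affine
        exact IsAffineHom.of_comp _ A₀.g
      haveI : IsAffineHom R.ι := by
        rw [← Scheme.Hom.isoOpensRange_inv_comp (c ≫ m)]; infer_instance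
      have h1 := Groth.Agent.Div89.ringKrullDim_stalk_eq_one_of_isAffineHom (U := R) (ξ := T) hT hTc.2 (by
        have : closure (R : Set A₀.E) = Set.univ := Set.univ_subset_iff.1
          (A₀.u.denseRange.closure_eq.symm.subset.trans (closure_mono hVsub))
        rw [this]; trivial)
      rw [ringKrullDim_stalk_eq_coheight] at h1
      have h1' : Order.coheight T = 1 := by exact_mod_cast h1
      have hlt : T < y := lt_of_le_not_ge hyT fun h' => hne (hyT.antisymm h').eq
      have hy0 : Order.coheight y = 0 := by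
        have := Order.coheight_add_one_le hlt
        rw [h1'] at this
        exact le_antisymm ((WithTop.add_le_add_iff_right WithTop.one_ne_top).1 (this.trans (zero_add 1).ge)) zero_le
      have hygen : IsGen y := fun w hw => (hw.antisymm (Order.coheight_eq_zero.1 hy0 hw)).eq
      exact hy (mem_range_of_isGen A₀.u hygen)
    have : T ∈ S₀.filter fun z => z ∉ Set.range m := hfilt ▸ Finset.mem_filter.2 ⟨hTS, hT⟩
    exact (Finset.mem_filter.1 this).2 hTm
  let w := IsOpenImmersion.lift (c ≫ m) m hsup'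
  have hw : w ≫ c ≫ m = m := IsOpenImmersion.lift_fac _ _ _
  refine ⟨w, ?_, ?_⟩
  · rw [← cancel_mono (c ≫ m), Category.assoc, hw, hmu, hcu']
  · rw [← hcg', ← Category.assoc, hw, hmg]

end main

end Groth.Agent.Hopf35.EtaleHull
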