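import Groth.Agent.Hopf35.EtaleHull.Max

/-! Suprema of admissible factorisations and the etale affine hull. -/

set_option autoImplicit false
set_option linter.style.haveILetI false
set_option backward.isDefEq.respectTransparency.types false
universe u

open CategoryTheory CategoryTheory.Limits AlgebraicGeometry IsLocalRing TopologicalSpace

namespace Groth.Agent.Hopf35.EtaleHull

variable {X S : Scheme.{u}} {f : X ⟶ S}

variable [IsNoetherian S] [Flat f] [LocallyOfFinitePresentation f] [QuasiCompact f]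

/-- A morphism which maps the dense point set into a clopen piece factors through it. -/
theorem exists_factor {A : Fac f} {E P : Scheme.{u}} (j : E ⟶ P) [IsOpenImmersion j] [IsClosedImmersion j]
    (v : A.E ⟶ P) (u : X ⟶ E) (h : A.u ≫ v = u ≫ j) : ∃ w : A.E ⟶ E, w ≫ j = v ∧ A.u ≫ w = u := by
  haveI := A.quasiCompact
  have hr : Set.range v ⊆ Set.range j := by
    have hc : IsClosed (v ⁻¹' Set.range j) := j.isClosedEmbedding.isClosed_range.preimage v.continuous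
    have hsub : Set.range A.u ⊆ v ⁻¹' Set.range j := by
      rintro _ ⟨x, rfl⟩
      exact ⟨u x, by rw [← Scheme.Hom.comp_apply, ← h, Scheme.Hom.comp_apply]⟩
    have huniv := A.u.denseRange.closure_eq ▸ closure_minimal hsub hc
    rintro _ ⟨e, rfl⟩
    exact huniv (Set.mem_univ e)
  refine ⟨IsOpenImmersion.lift j v hr, IsOpenImmersion.lift_fac _ _ _, ?_⟩
  rw [← cancel_mono j, Category.assoc, IsOpenImmersion.lift_fac, h]

/-- The supremum of two admissible factorisations. -/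
theorem exists_sup (hS : ∀ s : S, CAlg2.IsGeomUnibranch (S.presheaf.stalk s))
    (hemb : AssSch.NoEmbedded (Coh.structureModule S)) (A B : Fac f) :
    ∃ (C : Fac f) (c₁ : C.E ⟶ A.E) (c₂ : C.E ⟶ B.E),
      C.u ≫ c₁ = A.u ∧ C.u ≫ c₂ = B.u ∧ c₁ ≫ A.g = C.g ∧ c₂ ≫ B.g = C.g ∧
      ∀ (D : Fac f) (w₁ : D.E ⟶ A.E) (w₂ : D.E ⟶ B.E), D.u ≫ w₁ = A.u → D.u ≫ w₂ = B.u →
        w₁ ≫ A.g = D.g → w₂ ≫ B.g = D.g →
        ∃ w : D.E ⟶ C.E, D.u ≫ w = C.u ∧ w ≫ c₁ = w₁ ∧ w ≫ c₂ = w₂ := by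
  let u₀ : X ⟶ pullback A.g B.g := pullback.lift A.u B.u (A.w.trans B.w.symm)
  haveI : Etale (pullback.fst A.g B.g ≫ A.g) := inferInstance
  haveI : IsAffineHom (pullback.fst A.g B.g) := MorphismProperty.pullback_fst (P := @IsAffineHom) _ _ B.affine
  haveI : IsAffineHom (pullback.fst A.g B.g ≫ A.g) := inferInstance
  obtain ⟨C, j, hjo, hjc, hju, hjg⟩ := exists_admissible hS hemb (f := f) (pullback.fst A.g B.g ≫ A.g) u₀
    (by rw [pullback.lift_fst_assoc, A.w])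
  refine ⟨C, j ≫ pullback.fst _ _, j ≫ pullback.snd _ _, ?_, ?_, ?_, ?_, fun D w₁ w₂ h₁ h₂ k₁ k₂ => ?_⟩
  · rw [reassoc_of% hju, pullback.lift_fst]
  · rw [reassoc_of% hju, pullback.lift_snd]
  · rw [Category.assoc, hjg]
  · rw [Category.assoc, ← pullback.condition, hjg]
  obtain ⟨w, hw, hwu⟩ := exists_factor (A := D) j (pullback.lift w₁ w₂ (k₁.trans k₂.symm)) C.u (by
    rw [hju]
    refine pullback.hom_ext ?_ ?_
    · rw [Category.assoc, pullback.lift_fst, h₁, pullback.lift_fst]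
    · rw [Category.assoc, pullback.lift_snd, h₂, pullback.lift_snd])
  exact ⟨w, hwu, by rw [reassoc_of% hw, pullback.lift_fst], by rw [reassoc_of% hw, pullback.lift_snd]⟩

/-- The hull. -/
theorem exists_hull [Surjective f] (hS : ∀ s : S, CAlg2.IsGeomUnibranch (S.presheaf.stalk s))
    (hemb : AssSch.NoEmbedded (Coh.structureModule S)) :
    ∃ M : Fac f, ∀ (E : Scheme.{u}) (g : E ⟶ S) (u : X ⟶ E), Etale g → IsAffineHom g → u ≫ g = f →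
      ∃! v : M.E ⟶ E, M.u ≫ v = u ∧ v ≫ g = M.g := by
  obtain ⟨M, -, hM⟩ := exists_finest (f := f) (fun _ => True) ⟨⟨S, 𝟙 S, f, inferInstance, inferInstance, dominant_of_flat f fun y _ => f.surjective y, Category.comp_id f⟩, trivial⟩
    fun A B _ _ => by
      obtain ⟨C, c₁, c₂, h₁, h₂, k₁, k₂, -⟩ := exists_sup hS hemb A B
      exact ⟨C, trivial, ⟨c₁, h₁, k₁⟩, ⟨c₂, h₂, k₂⟩⟩
  refine ⟨M, fun E g u hg hga w => ?_⟩
  obtain ⟨A, j, -, -, hju, hjg⟩ := exists_admissible hS hemb g u w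
  obtain ⟨v, hv, hvg⟩ := hM A trivial
  refine existsUnique_of_exists_of_unique ⟨v ≫ j, by rw [reassoc_of% hv, hju], by rw [Category.assoc, hjg, hvg]⟩ ?_
  rintro a b ⟨ha, ha'⟩ ⟨hb, hb'⟩
  exact hom_ext M g (ha.trans hb.symm) (ha'.trans hb'.symm)

/-- The infimum of two admissible factorisations. -/
theorem exists_inf [Surjective f] (hS : ∀ s : S, CAlg2.IsGeomUnibranch (S.presheaf.stalk s))
    (hemb : AssSch.NoEmbedded (Coh.structureModule S)) (A B : Fac f) :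
    ∃ (M : Fac f) (v₁ : A.E ⟶ M.E) (v₂ : B.E ⟶ M.E),
      A.u ≫ v₁ = M.u ∧ B.u ≫ v₂ = M.u ∧ v₁ ≫ M.g = A.g ∧ v₂ ≫ M.g = B.g ∧
      ∀ (D : Fac f) (w₁ : A.E ⟶ D.E) (w₂ : B.E ⟶ D.E), A.u ≫ w₁ = D.u → B.u ≫ w₂ = D.u →
        w₁ ≫ D.g = A.g → w₂ ≫ D.g = B.g →
        ∃ w : M.E ⟶ D.E, M.u ≫ w = D.u ∧ v₁ ≫ w = w₁ ∧ v₂ ≫ w = w₂ := by
  haveI : UniversallyOpen f := inferInstance
  obtain ⟨M, ⟨⟨v₁, h₁, k₁⟩, v₂, h₂, k₂⟩, hM⟩ := exists_finest (f := f) (fun C => Le A C ∧ Le B C)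
    ⟨⟨S, 𝟙 S, f, inferInstance, inferInstance, dominant_of_flat f fun y _ => f.surjective y, Category.comp_id f⟩,
      ⟨A.g, A.w, Category.comp_id _⟩, ⟨B.g, B.w, Category.comp_id _⟩⟩
    fun C D ⟨⟨a₁, p₁, q₁⟩, b₁, r₁, s₁⟩ ⟨⟨a₂, p₂, q₂⟩, b₂, r₂, s₂⟩ => by
      obtain ⟨G, c₁, c₂, h₁, h₂, k₁, k₂, huniv⟩ := exists_sup hS hemb C D
      obtain ⟨wA, hwA, hA1, -⟩ := huniv A a₁ a₂ p₁ p₂ q₁ q₂
      obtain ⟨wB, hwB, hB1, -⟩ := huniv B b₁ b₂ r₁ r₂ s₁ s₂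
      exact ⟨G, ⟨⟨wA, hwA, by rw [← k₁, reassoc_of% hA1, q₁]⟩, wB, hwB, by rw [← k₁, reassoc_of% hB1, s₁]⟩,
        ⟨c₁, h₁, k₁⟩, ⟨c₂, h₂, k₂⟩⟩
  refine ⟨M, v₁, v₂, h₁, h₂, k₁, k₂, fun D w₁ w₂ a b c d => ?_⟩
  obtain ⟨w, hw, hwg⟩ := hM D ⟨⟨w₁, a, c⟩, w₂, b, d⟩
  refine ⟨w, hw, hom_ext A D.g ?_ ?_, hom_ext B D.g ?_ ?_⟩
  · rw [reassoc_of% h₁, hw, a]
  · rw [Category.assoc, hwg, k₁, c]
  · rw [reassoc_of% h₂, hw, b]
  · rw [Category.assoc, hwg, k₂, d]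

end Groth.Agent.Hopf35.EtaleHull
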